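import Cfsg.Agent.Omega.GTwoFour.Cor
import Cfsg.Agent.Lib.NormalAbelian

/-!
# OMEGA II.d: the end `F₄(q).2` (bb OMEGA #14245), abstract part

`G` of characteristic 2 type, `N` a subgroup (`N = N_G(G₀)`, `G₀ = F₄(q)`), `y ∈ N` an involution (exchanging long and
short), `v` a root involution commuting with `v^y`, `z = v v^y`, `C_G(v) ≤ N`, `O₂(C_N(y)) = ⟨y⟩`, `K` a 2-subgroup
of `C_N(y)` centralising `v` with `z` the square of an element of `K`.  If every `l ∈ C_N(y) ∩ C(v)` with `l⁴ = 1` and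
`[l, K] ≤ ⟨z⟩` is `1`, `z` or an involution with `v l` conjugate to `z`, and if `v` is not conjugate to `z`, then we
have a contradiction (`Abs.false`).
-/

set_option autoImplicit false

namespace Cfsg.Agent.Omega.IId.FFour

open Subgroup Cfsg Cfsg.Agent.ZN Cfsg.Agent.Omega.GTwoFour.Cor

universe u

variable {G : Type u} [Group G]

/-- The elements of `⟨y⟩`, `y` an involution. -/
theorem mem_zpowers_two {y : G} (hy : y * y = 1) {x : G} : x ∈ zpowers y ↔ x = 1 ∨ x = y := by
  constructor
  · rintro ⟨m, rfl⟩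
    have h2 : y ^ (2 : ℤ) = 1 := by rw [zpow_two, hy]
    rcases Int.even_or_odd m with ⟨k, rfl⟩ | ⟨k, rfl⟩
    · left
      change y ^ (k + k) = 1
      rw [← two_mul, zpow_mul, h2, one_zpow]
    · right
      change y ^ (2 * k + 1) = y
      rw [zpow_add, zpow_mul, h2, one_zpow, one_mul, zpow_one]
  · rintro (rfl | rfl)
    · exact one_mem _
    · exact mem_zpowers _

/-- A 2-group `K` acting on a 2-group `R`, `y ∈ R` a central involution of `R ⊔ K`: there is `e ∈ R - ⟨y⟩`, fixed by `K`
modulo `⟨y⟩`, with `e² ∈ ⟨y⟩`. -/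
theorem exists_fixed [Finite G] {R K : Subgroup G} {y : G} (hy : y * y = 1) (hyR : y ∈ R) (hR : IsPGroup 2 R)
    (hK : IsPGroup 2 K) (hRy : ∀ r ∈ R, r * y = y * r) (hKy : ∀ k ∈ K, k * y = y * k)
    (hKR : ∀ k ∈ K, ∀ r ∈ R, k * r * k⁻¹ ∈ R) (hne : ∃ r ∈ R, r ≠ 1 ∧ r ≠ y) :
    ∃ e ∈ R, e ≠ 1 ∧ e ≠ y ∧ (e * e = 1 ∨ e * e = y) ∧ ∀ k ∈ K, k * e * k⁻¹ = e ∨ k * e * k⁻¹ = e * y := by
  have hp : Fact (Nat.Prime 2) := ⟨Nat.prime_two⟩
  have hKn : K ≤ normalizer (R : Set G) := by
    intro k hk
    rw [mem_normalizer_iff]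
    intro r
    refine ⟨fun hr => hKR k hk r hr, fun hr => ?_⟩
    have h1 := hKR k⁻¹ (inv_mem hk) _ hr
    rwa [show k⁻¹ * (k * r * k⁻¹) * k⁻¹⁻¹ = r by group] at h1
  have hP : IsPGroup 2 (K ⊔ R : Subgroup G) := hK.to_sup_of_normal_right' hR hKn
  let P : Subgroup G := K ⊔ R
  have hRP : R ≤ P := le_sup_right
  have hPc : ∀ p ∈ P, p * y = y * p := by
    have h1 : P ≤ centralizer ({y} : Set G) := sup_le
      (fun k hk => mem_centralizer_singleton_iff.2 (hKy k hk))
      (fun r hr => mem_centralizer_singleton_iff.2 (hRy r hr))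
    exact fun p hp => mem_centralizer_singleton_iff.1 (h1 hp)
  have hyP : y ∈ P := hRP hyR
  let Y' : Subgroup P := (zpowers y).subgroupOf P
  have hmem : ∀ x : P, x ∈ Y' ↔ (x : G) = 1 ∨ (x : G) = y := fun x => by
    rw [show (x ∈ Y') = ((x : G) ∈ zpowers y) from rfl, mem_zpowers_two hy]
  have hY'n : Y'.Normal := by
    constructor
    intro x hx g
    rw [hmem] at hx ⊢
    rcases hx with h | h
    · left
      rw [coe_mul, coe_mul, h, mul_one, coe_inv, mul_inv_cancel]
    · right
      rw [coe_mul, coe_mul, h, hPc g g.2, coe_inv, mul_inv_cancel_right]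
  let R' : Subgroup P := R.subgroupOf P
  have hR'n : R'.Normal := by
    constructor
    intro x hx g
    change ((g * x * g⁻¹ : P) : G) ∈ R
    have hg : (g : G) ∈ normalizer (R : Set G) := (sup_le hKn le_normalizer : P ≤ normalizer (R : Set G)) g.2
    exact (mem_normalizer_iff.1 hg _).1 hx
  let M : Subgroup (P ⧸ Y') := R'.map (QuotientGroup.mk' Y')
  have hMn : M.Normal := hR'n.map _ (QuotientGroup.mk'_surjective Y')
  have hnil : Group.IsNilpotent (P ⧸ Y') := (hP.to_quotient Y').isNilpotent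
  have hMne : M ≠ ⊥ := by
    intro h0
    obtain ⟨r, hr, hr1, hr2⟩ := hne
    have h1 : QuotientGroup.mk' Y' ⟨r, hRP hr⟩ ∈ M := ⟨⟨r, hRP hr⟩, hr, rfl⟩
    rw [h0, mem_bot, QuotientGroup.mk'_apply, QuotientGroup.eq_one_iff, hmem] at h1
    rcases h1 with h1 | h1
    · exact hr1 h1
    · exact hr2 h1
  have h1 := Lib.NormalAbelian.normal_inf_center_ne_bot M hMne
  obtain ⟨⟨m, hm⟩, hm1⟩ := ne_bot_iff_exists_ne_one.mp h1
  obtain ⟨⟨w, hwP⟩, hwR, rfl⟩ := hm.1
  have hwR' : w ∈ R := hwR
  have hw1 : w ≠ 1 ∧ w ≠ y := by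
    have h2 : (⟨w, hwP⟩ : P) ∉ Y' := by
      intro h
      apply hm1
      apply Subtype.ext
      change QuotientGroup.mk' Y' ⟨w, hwP⟩ = 1
      rw [QuotientGroup.mk'_apply, QuotientGroup.eq_one_iff]
      exact h
    rw [hmem] at h2
    exact not_or.1 h2
  have hwK : ∀ k ∈ K, k * w * k⁻¹ = w ∨ k * w * k⁻¹ = w * y := by
    intro k hk
    have hkP : k ∈ P := (le_sup_left : K ≤ P) hk
    have h2 := mem_center_iff.mp hm.2 (QuotientGroup.mk' Y' ⟨k, hkP⟩)
    rw [← map_mul, ← map_mul, QuotientGroup.mk'_apply, QuotientGroup.mk'_apply, QuotientGroup.eq, hmem] at h2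
    have h3 : (k * w)⁻¹ * (w * k) = 1 ∨ (k * w)⁻¹ * (w * k) = y := h2
    rcases h3 with h3 | h3
    · left
      rw [inv_mul_eq_one] at h3
      rw [h3, mul_inv_cancel_right]
    · right
      have h4 : w * k = k * w * y := by rw [← h3, mul_inv_cancel_left]
      have h5 : k * w = w * k * y := by rw [h4, mul_assoc, hy, mul_one]
      rw [h5, mul_assoc, ← hKy k⁻¹ (inv_mem hk), ← mul_assoc, mul_inv_cancel_right]
  -- powers
  have hpow : ∃ n : ℕ, w ^ 2 ^ n = 1 ∨ w ^ 2 ^ n = y := by
    obtain ⟨n, hn⟩ := hR ⟨w, hwR'⟩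
    exact ⟨n, Or.inl (by have := congrArg Subtype.val hn; exact this)⟩
  classical
  have hmin := Nat.find_spec hpow
  have hn0 : Nat.find hpow ≠ 0 := by
    intro h0
    rw [h0, pow_zero, pow_one] at hmin
    rcases hmin with h | h
    · exact hw1.1 h
    · exact hw1.2 h
  obtain ⟨n, hn⟩ := Nat.exists_eq_succ_of_ne_zero hn0
  have hlt := Nat.find_min hpow (show n < Nat.find hpow by omega)
  rw [hn, pow_succ, pow_mul, pow_two] at hmin
  refine ⟨w ^ 2 ^ n, pow_mem hwR' _, fun h => hlt (Or.inl h), fun h => hlt (Or.inr h), hmin, fun k hk => ?_⟩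
  have h6 : k * w ^ 2 ^ n * k⁻¹ = (k * w * k⁻¹) ^ 2 ^ n := by rw [conj_pow]
  rw [h6]
  rcases hwK k hk with h | h
  · left
    rw [h]
  · rw [h, (show Commute w y from hRy w hwR').mul_pow]
    rcases Nat.eq_zero_or_pos n with rfl | hpos
    · right
      rw [pow_zero, pow_one, pow_one]
    · left
      have h7 : y ^ 2 ^ n = 1 := by
        obtain ⟨m, rfl⟩ := Nat.exists_eq_succ_of_ne_zero hpos.ne'
        rw [pow_succ', pow_mul, pow_two, hy, one_pow]
      rw [h7, mul_one]

/-- The data. -/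
structure Abs (N K : Subgroup G) (y v z : G) : Prop where
  yy : y * y = 1
  y1 : y ≠ 1
  yN : y ∈ N
  vv : v * v = 1
  zdef : z = v * (y * v * y)
  com : v * (y * v * y) = y * v * y * v
  z1 : z ≠ 1
  hC : ∀ g, g * v = v * g → g ∈ N
  hD : ∀ Q : Subgroup G, IsPGroup 2 Q → (∀ x ∈ Q, x ∈ N ∧ x * y = y * x) →
    (∀ k ∈ N, k * y = y * k → ∀ x ∈ Q, k * x * k⁻¹ ∈ Q) → ∀ x ∈ Q, x = 1 ∨ x = y
  K2 : IsPGroup 2 K
  KN : ∀ k ∈ K, k ∈ N
  Ky : ∀ k ∈ K, k * y = y * k
  Kv : ∀ k ∈ K, k * v = v * k
  hz : ∃ t ∈ K, t * t = z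
  star : ∀ l ∈ N, l * y = y * l → l * v = v * l → l * l * (l * l) = 1 →
    (∀ k ∈ K, k * l * k⁻¹ = l ∨ k * l * k⁻¹ = l * z) →
    l = 1 ∨ l = z ∨ (l * l = 1 ∧ ∃ g, g * (v * l) * g⁻¹ = z)
  nc : ∀ g, g * v * g⁻¹ ≠ z

namespace Abs

variable {N K : Subgroup G} {y v z : G}

theorem yvy (h : Abs N K y v z) : y * z * y = z := by
  rw [h.zdef]
  calc y * (v * (y * v * y)) * y = y * v * y * v * (y * y) := by group
    _ = v * (y * v * y) := by rw [h.yy, mul_one, ← h.com]

theorem zy (h : Abs N K y v z) : z * y = y * z := by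
  calc z * y = y * y * z * y := by rw [h.yy, one_mul]
    _ = y * (y * z * y) := by group
    _ = y * z := by rw [h.yvy]

theorem zv (h : Abs N K y v z) : z * v = v * z := by
  rw [h.zdef]
  calc v * (y * v * y) * v = v * (y * v * y * v) := by group
    _ = v * (v * (y * v * y)) := by rw [h.com]

theorem vyv (h : Abs N K y v z) : v * y * v = y * z := by
  rw [h.zdef, h.com]
  calc v * y * v = (y * y) * v * y * v := by rw [h.yy, one_mul]
    _ = y * (y * v * y * v) := by group

theorem zz (h : Abs N K y v z) : z * z = 1 := by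
  have h1 : z = y * (v * y * v) := by rw [h.vyv, ← mul_assoc, h.yy, one_mul]
  have h2 : v * y * v * (v * y * v) = 1 := by
    calc v * y * v * (v * y * v) = v * y * (v * v) * y * v := by group
      _ = v * (y * y) * v := by rw [h.vv, mul_one, mul_assoc v y y]
      _ = 1 := by rw [h.yy, mul_one, h.vv]
  have h3 : y * (v * y * v) = v * y * v * y := by
    rw [h.vyv, mul_assoc, h.zy]
  calc z * z = y * (v * y * v) * (v * y * v * y) := by rw [← h3, ← h1]
    _ = y * (v * y * v * (v * y * v)) * y := by group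
    _ = 1 := by rw [h2, mul_one, h.yy]

theorem v_inv (h : Abs N K y v z) : v⁻¹ = v := inv_eq_of_mul_eq_one_left h.vv
theorem y_inv (h : Abs N K y v z) : y⁻¹ = y := inv_eq_of_mul_eq_one_left h.yy
theorem z_inv (h : Abs N K y v z) : z⁻¹ = z := inv_eq_of_mul_eq_one_left h.zz

theorem vN (h : Abs N K y v z) : v ∈ N := h.hC v rfl

variable [Finite G]

theorem inf (h : Abs N K y v z) : ∀ x ∈ R y, x ∈ N → x = 1 ∨ x = y := by
  intro x hx hxN
  refine h.hD (R y ⊓ N) ((R_two y).to_le inf_le_left) (fun x hx => ⟨hx.2, R_cen hx.1⟩) ?_ x ⟨hx, hxN⟩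
  intro k hk hky x hx
  exact ⟨R_norm hky hx.1, N.mul_mem (N.mul_mem hk hx.2) (N.inv_mem hk)⟩

/-- An element `x` of `C_R(z)` with `v x v ∈ R` is trivial. -/
theorem cap (h : Abs N K y v z) : ∀ x ∈ R y, x * z = z * x → v * x * v ∈ R y → x = 1 := by
  -- `X = E ⊓ E^v`
  let X : Subgroup G :=
    { carrier := {x | x ∈ R y ∧ x * z = z * x ∧ v * x * v ∈ R y}
      mul_mem' := by
        rintro a b ⟨a1, a2, a3⟩ ⟨b1, b2, b3⟩
        refine ⟨mul_mem a1 b1, ?_, ?_⟩
        · rw [mul_assoc, b2, ← mul_assoc, a2, mul_assoc]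
        · have e : v * (a * b) * v = v * a * v * (v * b * v) := by
            calc v * (a * b) * v = v * a * 1 * b * v := by group
              _ = v * a * (v * v) * b * v := by rw [h.vv]
              _ = _ := by group
          rw [e]
          exact mul_mem a3 b3
      one_mem' := ⟨one_mem _, by rw [one_mul, mul_one], by rw [mul_one, h.vv]; exact one_mem _⟩
      inv_mem' := by
        rintro a ⟨a1, a2, a3⟩
        refine ⟨(R y).inv_mem a1, ?_, ?_⟩
        · rw [inv_mul_eq_iff_eq_mul, ← mul_assoc, a2, mul_inv_cancel_right]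
        · have e : v * a⁻¹ * v = (v * a * v)⁻¹ := by
            rw [mul_inv_rev, mul_inv_rev, h.v_inv]; group
          rw [e]
          exact (R y).inv_mem a3 }
  have hX : ∀ x, x ∈ X ↔ x ∈ R y ∧ x * z = z * x ∧ v * x * v ∈ R y := fun _ => Iff.rfl
  have hXv : ∀ x ∈ X, v * x * v ∈ X := by
    rintro x ⟨h1, h2, h3⟩
    refine ⟨h3, ?_, ?_⟩
    · calc v * x * v * z = v * x * (v * z) := by group
        _ = v * (x * z) * v := by rw [← h.zv]; group
        _ = v * z * x * v := by rw [h2]; group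
        _ = z * (v * x * v) := by rw [← h.zv]; group
    · have e : v * (v * x * v) * v = x := by
        calc v * (v * x * v) * v = v * v * x * (v * v) := by group
          _ = x := by rw [h.vv, one_mul, mul_one]
      rw [e]
      exact h1
  have hX2 : IsPGroup 2 X := (R_two y).to_le fun x hx => hx.1
  -- elements of `X` commuting with `v`
  have hfix : ∀ x ∈ X, x * v = v * x → x = 1 := by
    intro x hx hxv
    rcases h.inf x hx.1 (h.hC x hxv) with h1 | h1
    · exact h1
    · exfalso
      -- `x = y` commutes with `v`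
      rw [h1] at hxv
      apply h.z1
      rw [h.zdef, hxv]
      calc v * (v * y * y) = v * v * (y * y) := by group
        _ = 1 := by rw [h.vv, h.yy, mul_one]
  intro x hx1 hx2 hx3
  by_contra hx
  have hxX : x ∈ X := ⟨hx1, hx2, hx3⟩
  -- `K = ⟨v⟩` acts on `X`
  have hV2 : IsPGroup 2 (zpowers v) := by
    intro ⟨n, hn⟩
    refine ⟨1, Subtype.ext ?_⟩
    change n ^ 2 ^ 1 = 1
    rcases (mem_zpowers_two h.vv).1 hn with rfl | rfl
    · rw [one_pow]
    · rw [pow_one, pow_two, h.vv]
  have hVn : zpowers v ≤ normalizer (X : Set G) := by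
    rw [zpowers_le, mem_normalizer_iff]
    intro r
    rw [h.v_inv]
    refine ⟨fun hr => hXv r hr, fun hr => ?_⟩
    have h1 := hXv _ hr
    have e : v * (v * r * v) * v = r := by
      calc v * (v * r * v) * v = v * v * r * (v * v) := by group
        _ = r := by rw [h.vv, one_mul, mul_one]
    rwa [e] at h1
  have hp : Fact (Nat.Prime 2) := ⟨Nat.prime_two⟩
  have hP : IsPGroup 2 (zpowers v ⊔ X : Subgroup G) := hV2.to_sup_of_normal_right' hX2 hVn
  let P : Subgroup G := zpowers v ⊔ X
  let X' : Subgroup P := X.subgroupOf P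
  have hXn : X'.Normal := by
    constructor
    intro x hx g
    change ((g * x * g⁻¹ : P) : G) ∈ X
    have hg : (g : G) ∈ normalizer (X : Set G) := (sup_le hVn le_normalizer : P ≤ normalizer (X : Set G)) g.2
    exact (mem_normalizer_iff.1 hg _).1 hx
  have hX'ne : X' ≠ ⊥ := by
    intro h0
    have h1 : (⟨x, (le_sup_right : X ≤ P) hxX⟩ : P) ∈ X' := hxX
    rw [h0, mem_bot] at h1
    exact hx (congrArg Subtype.val h1)
  have hnil : Group.IsNilpotent P := hP.isNilpotent
  have h1 := Lib.NormalAbelian.normal_inf_center_ne_bot X' hX'ne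
  obtain ⟨⟨⟨m, hmP⟩, hm⟩, hm1⟩ := ne_bot_iff_exists_ne_one.mp h1
  have h2 := mem_center_iff.mp hm.2 ⟨v, (le_sup_left : zpowers v ≤ P) (mem_zpowers v)⟩
  have h3 : v * m = m * v := congrArg Subtype.val h2
  have h4 : m = 1 := hfix m hm.1 h3.symm
  apply hm1
  apply Subtype.ext
  exact Subtype.ext h4

/-- **The contradiction.** -/
theorem false (h : Abs N K y v z) (hG : IsCharacteristicTwoType G) : False := by
  obtain ⟨t, ht, htz⟩ := h.hz
  have hyR : y ∈ R y := y_mem_R h.yy
  -- `R y ≠ ⟨y⟩`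
  have hne : ∃ r ∈ R y, r ≠ 1 ∧ r ≠ y := by
    by_contra hcon
    push Not at hcon
    have h1 : t ∈ R y := by
      refine R_self hG h.yy h.y1 (h.Ky t ht) fun r hr => ?_
      by_cases hr1 : r = 1
      · rw [hr1, one_mul, mul_one]
      · rw [hcon r hr hr1]
        exact h.Ky t ht
    by_cases ht1 : t = 1
    · apply h.z1
      rw [← htz, ht1, one_mul]
    · apply h.z1
      rw [← htz, hcon t h1 ht1, h.yy]
  obtain ⟨e, heR, he1, hey, hee, heK⟩ := exists_fixed h.yy hyR (R_two y) h.K2 (fun r hr => R_cen hr) h.Ky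
    (fun k hk r hr => R_norm (h.Ky k hk) hr) hne
  have ey : e * y = y * e := R_cen heR
  -- `e` commutes with `z`
  have hez : e * z = z * e := by
    have h1 : t * t * e * (t * t)⁻¹ = e := by
      have h2 : t * t * e * (t * t)⁻¹ = t * (t * e * t⁻¹) * t⁻¹ := by group
      rw [h2]
      rcases heK t ht with h3 | h3
      · rw [h3, h3]
      · rw [h3]
        have h4 : t * (e * y) * t⁻¹ = t * e * t⁻¹ * (t * y * t⁻¹) := by group
        rw [h4, h3, h.Ky t ht, mul_inv_cancel_right, mul_assoc, h.yy, mul_one]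
    rw [htz] at h1
    calc e * z = (z * e * z⁻¹) * z := by rw [h1]
      _ = z * e := by group
  -- `R` is normalised by `z`, `v R v` by everything in `C(y, z)`
  have vv2 : ∀ a, v * (v * a * v) * v = a := fun a => by
    calc v * (v * a * v) * v = v * v * a * (v * v) := by group
      _ = a := by rw [h.vv, one_mul, mul_one]
  have vmul : ∀ a b, v * (a * b) * v = v * a * v * (v * b * v) := fun a b => by
    calc v * (a * b) * v = v * a * 1 * b * v := by group
      _ = v * a * (v * v) * b * v := by rw [h.vv]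
      _ = _ := by group
  -- `v e v` commutes with `y`
  have hvz : ∀ a, a * z = z * a → v * a * v * z = z * (v * a * v) := fun a ha => by
    calc v * a * v * z = v * a * (v * z) := by group
      _ = v * (a * z) * v := by rw [← h.zv]; group
      _ = v * z * a * v := by rw [ha]; group
      _ = z * (v * a * v) := by rw [← h.zv]; group
  have hvyz : ∀ a, a * y = y * a → v * a * v * (y * z) = y * z * (v * a * v) := fun a ha => by
    rw [← h.vyv, ← vmul, ha, vmul]
  have hvy : ∀ a, a * y = y * a → a * z = z * a → v * a * v * y = y * (v * a * v) := fun a ha hb => by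
    have h1 := hvyz a ha
    have h2 := hvz a hb
    have e1 : y = y * z * z := by rw [mul_assoc, h.zz, mul_one]
    calc v * a * v * y = v * a * v * (y * z * z) := by rw [← e1]
      _ = v * a * v * (y * z) * z := by group
      _ = y * z * (v * a * v) * z := by rw [h1]
      _ = y * z * (v * a * v * z) := by group
      _ = y * z * (z * (v * a * v)) := by rw [h2]
      _ = y * (z * z) * (v * a * v) := by group
      _ = _ := by rw [h.zz, mul_one]
  -- `[e, v e v] = 1`
  have hcom : ∀ a ∈ R y, a * z = z * a → ∀ b ∈ R y, b * z = z * b → a * (v * b * v) = v * b * v * a := by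
    intro a ha haz b hb hbz
    obtain ⟨c, hc⟩ : ∃ c, c = v * b * v := ⟨_, rfl⟩
    rw [← hc]
    have hay := R_cen ha
    have hby := R_cen hb
    have hcy : c * y = y * c := hc ▸ hvy b hby hbz
    have hcz : c * z = z * c := hc ▸ hvz b hbz
    have h1 : a * c * a⁻¹ * c⁻¹ = 1 := by
      apply h.cap
      · have h2 : c * a⁻¹ * c⁻¹ ∈ R y := R_norm hcy (inv_mem ha)
        have h3 := mul_mem ha h2
        rwa [show a * (c * a⁻¹ * c⁻¹) = a * c * a⁻¹ * c⁻¹ by group] at h3
      · have ca : Commute a z := haz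
        have cc : Commute c z := hcz
        exact ((ca.mul_left cc).mul_left ca.inv_left).mul_left cc.inv_left
      · -- `v [a, c] v = [v a v, b]`
        have h4 : v * (a * c * a⁻¹ * c⁻¹) * v = (v * a * v) * b * (v * a * v)⁻¹ * b⁻¹ := by
          have h5 : v * c * v = b := by rw [hc, vv2]
          have h6 : v * a⁻¹ * v = (v * a * v)⁻¹ := by rw [mul_inv_rev, mul_inv_rev, h.v_inv]; group
          have h7 : v * c⁻¹ * v = b⁻¹ := by
            have h71 : v * c⁻¹ * v = (v * c * v)⁻¹ := by rw [mul_inv_rev, mul_inv_rev, h.v_inv]; group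
            rw [h71, h5]
          rw [vmul, vmul, vmul, h5, h6, h7]
        rw [h4]
        have h8 : v * a * v * y = y * (v * a * v) := hvy a hay haz
        exact mul_mem (R_norm h8 hb) (inv_mem hb)
    calc a * c = (a * c * a⁻¹ * c⁻¹) * (c * a) := by group
      _ = c * a := by rw [h1, one_mul]
  set w := e * (v * e * v) with hw
  have hec : e * (v * e * v) = v * e * v * e := hcom e heR hez e heR hez
  have hwv : w * v = v * w := by
    calc w * v = e * (v * e) * (v * v) := by rw [hw]; group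
      _ = v * (v * e * v * e) := by rw [h.vv, mul_one]; calc
          e * (v * e) = e * (v * e) * 1 := by rw [mul_one]
          _ = e * (v * e) * (v * v) := by rw [h.vv]
          _ = e * (v * e * v) * v := by group
          _ = v * e * v * e * v := by rw [hec]
          _ = v * (e * v * e * v) := by group
          _ = v * (e * (v * e * v)) := by group
          _ = v * (v * e * v * e) := by rw [hec]
      _ = v * w := by rw [← hec]
  have hwN : w ∈ N := h.hC w hwv
  have hwy : w * y = y * w := by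
    have h1 : Commute e y := ey
    have h2 : Commute (v * e * v) y := hvy e ey hez
    exact h1.mul_left h2
  have hww : w * w = e * e * (v * (e * e) * v) := by
    rw [hw, vmul]
    calc e * (v * e * v) * (e * (v * e * v)) = e * (v * e * v * e) * (v * e * v) := by group
      _ = e * (e * (v * e * v)) * (v * e * v) := by rw [← hec]
      _ = _ := by group
  have hww' : (e * e = 1 ∧ w * w = 1) ∨ (e * e = y ∧ w * w = z) := by
    rcases hee with h1 | h1
    · left
      exact ⟨h1, by rw [hww, h1, mul_one, h.vv, mul_one]⟩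
    · right
      refine ⟨h1, ?_⟩
      rw [hww, h1, h.vyv, ← mul_assoc, h.yy, one_mul]
  have hw4 : w * w * (w * w) = 1 := by
    rcases hww' with ⟨-, h1⟩ | ⟨-, h1⟩
    · rw [h1, mul_one]
    · rw [h1, h.zz]
  have hwK : ∀ k ∈ K, k * w * k⁻¹ = w ∨ k * w * k⁻¹ = w * z := by
    intro k hk
    have hkv := h.Kv k hk
    have hkv' : v * k⁻¹ = k⁻¹ * v := by
      rw [eq_inv_mul_iff_mul_eq, ← mul_assoc, hkv, mul_inv_cancel_right]
    have h1 : k * w * k⁻¹ = k * e * k⁻¹ * (v * (k * e * k⁻¹) * v) := by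
      calc k * w * k⁻¹ = k * e * k⁻¹ * ((k * v) * e * (v * k⁻¹)) := by rw [hw]; group
        _ = k * e * k⁻¹ * ((v * k) * e * (k⁻¹ * v)) := by rw [hkv, hkv']
        _ = _ := by group
    rw [h1]
    rcases heK k hk with h2 | h2
    · left
      rw [h2]
    · right
      rw [h2, vmul, h.vyv]
      have h3 : v * e * v * y = y * (v * e * v) := hvy e ey hez
      calc e * y * (v * e * v * (y * z)) = e * (y * (v * e * v)) * (y * z) := by group
        _ = e * (v * e * v * y) * (y * z) := by rw [h3]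
        _ = e * (v * e * v) * (y * y) * z := by group
        _ = w * z := by rw [h.yy, mul_one]
  rcases h.star w hwN hwy hwv hw4 hwK with h1 | h1 | ⟨h1, g, hg⟩
  · -- `w = 1`
    apply he1
    apply h.cap e heR hez
    have h2 : v * e * v = e⁻¹ := (eq_inv_of_mul_eq_one_right (hw ▸ h1))
    rw [h2]
    exact inv_mem heR
  · -- `w = z`
    apply hey
    have h2 : y * e ∈ R y := mul_mem hyR heR
    have h3 : y * e = 1 := by
      apply h.cap _ h2
      · have c1 : Commute y z := h.zy.symm
        have c2 : Commute e z := hez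
        exact c1.mul_left c2
      · have h4 : v * (y * e) * v = y * (z * (v * e * v)) := by
          rw [vmul, h.vyv, mul_assoc]
        have h5 : v * e * v = e⁻¹ * z := by
          rw [eq_inv_mul_iff_mul_eq, ← hw, h1]
        have h6 : v * (y * e) * v = y * e⁻¹ := by
          rw [h4, h5]
          have h7 : z * (e⁻¹ * z) = e⁻¹ := by
            have c2 : Commute e⁻¹ z := (show Commute e z from hez).inv_left
            rw [c2.eq, ← mul_assoc, h.zz, one_mul]
          rw [h7]
        rw [h6]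
        exact mul_mem hyR (inv_mem heR)
    rw [eq_comm, ← h.y_inv]
    exact inv_eq_of_mul_eq_one_right h3
  · -- `w` an involution, `v w` conjugate to `z`
    have hee1 : e * e = 1 := by
      rcases hww' with ⟨h2, -⟩ | ⟨-, h2⟩
      · exact h2
      · exact absurd (h2.symm.trans h1) h.z1
    have hei : e⁻¹ = e := inv_eq_of_mul_eq_one_left hee1
    -- `e⁻¹ v e = v w`
    have h2 : e * v * e⁻¹ = v * w := by
      rw [hei, hw, hec]
      calc e * v * e = v * v * (e * v * e) := by rw [h.vv, one_mul]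
        _ = v * (v * e * v * e) := by group
    apply h.nc (g * e)
    rw [← hg, ← h2]
    group

end Abs

end Cfsg.Agent.Omega.IId.FFour
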