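import Cfsg.Agent.TitsThree.SolvedFF
import Cfsg.Agent.TitsThree.KExcF4
import Cfsg.Agent.ChevalleyStructure.FieldIso
import Cfsg.Agent.ParSys.FreeLieLoc
import Cfsg.Agent.FourTwo.Base

/-!
# Identification of `F₄(2)`

`equiv_Gg`: a group acting strongly transitively on a Moufang building all whose panels have three chambers is the
group generated by the root groups.
`ident_bldg`: on a thick building of type `F₄` with panels of three chambers only `F₄(2)` acts strongly transitively.
`ident_cosets`, `ident`: the same for a system of parabolics (`FreeLoc.SysL`) of type `F₄`, all `q i = 2`.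
-/

set_option autoImplicit false

namespace Cfsg.Agent.Omega.IId.FFour.Ident

open Cfsg.Lie
open Cfsg.Agent.Tits.Core Cfsg.Agent.Tits.Core.Bldg Cfsg.Agent.Tits Cfsg.Agent.Tits.MouOut
open Cfsg.Agent.Tits.MouDefs (rt Aut Chart mem_Aut)
open Cfsg.Agent.LieRecognition.BNCox Cfsg.Agent.LieRecognition.CoxClass
open Cfsg.Agent.TitsThree Cfsg.Agent.TitsThree.Pack Cfsg.Agent.TitsThree.FFData
open Cfsg.Agent.TitsThree.F4Bond Cfsg.Agent.TitsThree.EndGen Cfsg.Agent.TitsThree.Reindex
open Cfsg.Agent.ParSys Cfsg.Agent.ParSys.FreeCount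
open MulAction

/-! ### panels of three chambers -/

section Gen

variable {I : Type*} {M : CoxeterMatrix I} {W : Type*} [Group W] {cs : CoxeterSystem M W}
variable {C : Type*} {Δ : Bldg cs C} {σ : W → C}

/-- the order of a fundamental root group -/
theorem card_root [Finite C] (H : Sys Δ (Aut Δ) σ (UU Δ σ)) {i : I} {q : ℕ} (h : Δ.Param i q) :
    Nat.card (UU Δ σ (rt cs 1 i)) = q := by
  have h1 := EndHyp.param H i (σ 1)
  have h2 := h (σ 1)
  omega

/-- two opposite chambers have trivial stabiliser -/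
theorem tor_eq_one [Finite I] [Finite W] [Finite C] (H : Sys Δ (Aut Δ) σ (UU Δ σ)) (h2 : ∀ i, Δ.Param i 2) {h : Aut Δ}
    (hh : h ∈ Tor cs (Aut Δ) σ) : h = 1 := by
  refine EndGen.tor_eq_one H hh fun i u hu => ?_
  have h3 := tor_conj H hh hu
  have hc := card_root H (h2 i)
  by_cases hu1 : u = 1
  · rw [hu1, mul_one, one_mul]
  · have h4 : h * u * h⁻¹ ≠ 1 := by
      intro h5
      apply hu1
      have h6 : h * u = h := by
        rw [mul_inv_eq_one] at h5
        exact h5
      exact mul_eq_left.1 h6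
    obtain ⟨x, hx, huniq⟩ := Nat.card_eq_two_iff' (1 : UU Δ σ (rt cs 1 i)) |>.1 hc
    have e1 := huniq ⟨u, hu⟩ fun h5 => hu1 (congrArg Subtype.val h5)
    have e2 := huniq ⟨_, h3⟩ fun h5 => h4 (congrArg Subtype.val h5)
    have e3 : h * u * h⁻¹ = u := congrArg Subtype.val (e2.trans e1.symm)
    rwa [mul_inv_eq_iff_eq_mul] at e3

/-- a strongly transitive group is the full group of automorphisms -/
theorem bijective [Finite I] [Finite W] [Finite C] (H : Sys Δ (Aut Δ) σ (UU Δ σ)) (h2 : ∀ i, Δ.Param i 2)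
    {G : Type*} [Group G] [MulAction G C] (hG : Δ.StrongAct G) : Function.Bijective (Top.toAut hG) := by
  refine ⟨Top.toAut_injective hG, fun a => ?_⟩
  obtain ⟨g, h3, h4⟩ := hG.trans (σ 1) (σ (w0 cs)) (a • σ 1) (a • σ (w0 cs)) (Top.δ_smul a _ _).symm
  refine ⟨g, ?_⟩
  have h5 : (Top.toAut hG g)⁻¹ * a ∈ Tor cs (Aut Δ) σ := by
    refine Subgroup.mem_inf.2 ⟨mem_stabilizer_iff.2 ?_, mem_stabilizer_iff.2 ?_⟩
    · rw [mul_smul, inv_smul_eq_iff, Top.toAut_smul, h3]
    · rw [mul_smul, inv_smul_eq_iff, Top.toAut_smul, h4]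
  have h6 := tor_eq_one H h2 h5
  exact inv_mul_eq_one.1 h6

/-- **a strongly transitive group is the group generated by the root groups** -/
theorem equiv_Gg [Finite I] [Finite W] [Finite C] (H : Sys Δ (Aut Δ) σ (UU Δ σ)) (h2 : ∀ i, Δ.Param i 2)
    {G : Type*} [Group G] [MulAction G C] (hG : Δ.StrongAct G) : Nonempty (G ≃* ↥(Gg cs (UU Δ σ))) :=
  ⟨(MulEquiv.ofBijective _ (bijective H h2 hG)).trans (MulEquiv.ofBijective _ (bijective H h2 H.Gg_strongAct)).symm⟩

end Gen

/-! ### type `F₄` -/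

/-- the fundamental root groups and the fields -/
theorem card_eq {W C : Type*} [Group W] [Finite W] [Finite C] {cs : CoxeterSystem cF W} {Δ : Bldg cs C} {σ : W → C}
    (H : Sys Δ (Aut Δ) σ (UU Δ σ)) (h2 : ∀ i, Δ.Param i 2)
    {F E : Type} [Field F] [Field E] [Algebra F E] {Q : ConjPair F E} (h : OutP Δ σ Q) :
    Nat.card F = 2 ∧ Nat.card E = 2 := by
  obtain ⟨P, R⟩ := h
  have h0 : Nat.card F = Nat.card (UU Δ σ (rt cs 1 0)) := by
    have h3 := R.r0.1
    rw [← Nat.card_range_of_injective (f := fun t => (P.x0 t : Aut Δ))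
      fun a b hab => R.inj0 (Subtype.ext hab), h3]
    rfl
  have h2' : Nat.card E = Nat.card (UU Δ σ (rt cs 1 2)) := by
    have h3 := R.r2.1
    rw [← Nat.card_range_of_injective (f := fun t => (P.x2 t : Aut Δ))
      fun a b hab => R.inj2 (Subtype.ext hab), h3]
    rfl
  rw [h0, h2', card_root H (h2 0), card_root H (h2 2)]
  exact ⟨rfl, rfl⟩

/-- the oriented case -/
theorem ident_out {W C : Type*} [Group W] [Finite W] [Finite C] {cs : CoxeterSystem cF W} {Δ : Bldg cs C} {σ : W → C}
    (hth : Δ.Thick) (hσ : Chart Δ σ) (h2 : ∀ i, Δ.Param i 2) (h : Out Δ σ) {G : Type*} [Group G] [MulAction G C]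
    (hG : Δ.StrongAct G) : Nonempty (G ≃* ↥(chevF4.group (ZMod 2))) := by
  have H := MouAll.sys MouAll.lab_F CombInst.diag_F hth hσ
  rcases h with ⟨F, i1, i2, h⟩ | ⟨F, E, i1, i2, i3, i4, i5, P, hP, h⟩
  · have hc := (card_eq H h2 h).1
    have : Fintype F := Fintype.ofFinite F
    have := KExcF4.simple F
    obtain ⟨e1⟩ := equiv_Gg H h2 hG
    obtain ⟨e2⟩ := SolvedFF.nonempty_mulEquiv hth hσ h (KExcF4.kff F)
    have e3 : ZMod 2 ≃+* F := ZMod.ringEquivOfPrime F Nat.prime_two (by rw [← Nat.card_eq_fintype_card, hc])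
    exact ⟨(e1.trans e2).trans (Cfsg.Agent.ChevalleyStructure.FieldIso.groupEquiv chevF4 e3.symm)⟩
  · exfalso
    have hc := card_eq H h2 h
    have h3 := P.card_eq hP
    rw [hc.1, hc.2] at h3
    norm_num at h3

/-- **only `F₄(2)` acts strongly transitively on a thick building of type `F₄` with panels of three chambers** -/
theorem ident_bldg {W C : Type*} [Group W] [Finite W] [Finite C] [Nonempty C] {cs : CoxeterSystem cF W} {Δ : Bldg cs C}
    (hth : Δ.Thick) (h2 : ∀ i, Δ.Param i 2) {G : Type*} [Group G] [MulAction G C]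
    (hG : Δ.StrongAct G) : Nonempty (G ≃* ↥(chevF4.group (ZMod 2))) := by
  obtain ⟨c⟩ := (inferInstance : Nonempty C)
  obtain ⟨d, hd⟩ := Opp.exists_opp Δ c
  obtain ⟨σ, hσ, -, -⟩ := MouDefs.exists_chart hd 1
  rcases orient hth hσ with h1 | h1
  · exact ident_out hth hσ h2 (out_of_midStd hth hσ h1) hG
  · have hs := revSys_simple cs
    refine ident_out (re_thick hs hth) (re_chart hs hσ) (fun i x => ?_)
      (out_of_midStd (re_thick hs hth) (re_chart hs hσ) (mid_re hs rfl rfl h1)) (G := G)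
      ⟨hG.iso, hG.trans, hG.faithful⟩
    rw [re_pan]
    exact h2 _ x

/-! ### systems of parabolics -/

section Cosets

variable {I : Type*} {M : CoxeterMatrix I} {W : Type*} [Group W] {G : Type*} [Group G]
  {cs : CoxeterSystem M W} {B : Subgroup G} {P : I → Subgroup G} {D : W → Set G}

/-- the panels -/
theorem param (h : Bruhat.Cosets cs B P D) (i : I) {q : ℕ} (hq : B.relIndex (P i) = q + 1) :
    h.bldg.Param i q := by
  intro x
  induction x using QuotientGroup.induction_on with | _ a =>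
  rw [← hq, Subgroup.relIndex, Subgroup.index]
  symm
  refine Nat.card_congr (Equiv.ofBijective
    (Quotient.lift (fun p : P i => (⟨QuotientGroup.mk (a * p), ?_⟩ : h.bldg.Pan i (QuotientGroup.mk a))) ?_) ?_)
  · by_cases hp : (p : G) ∈ B
    · left
      rw [QuotientGroup.eq]
      have e : (a * (p : G))⁻¹ * a = (p : G)⁻¹ := by group
      rw [e]
      exact inv_mem hp
    · right
      show h.bldg.δ (QuotientGroup.mk a) (QuotientGroup.mk (a * (p : G))) = cs.simple i
      rw [h.bldg_δ, inv_mul_cancel_left, h.mem_simple_iff]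
      exact ⟨p.2, hp⟩
  · intro p r hpr
    refine Subtype.ext ?_
    rw [QuotientGroup.eq]
    have h1 : (p⁻¹ * r : P i) ∈ B.subgroupOf (P i) := QuotientGroup.leftRel_apply.1 hpr
    rw [Subgroup.mem_subgroupOf] at h1
    have e : (a * (p : G))⁻¹ * (a * (r : G)) = ((p⁻¹ * r : P i) : G) := by
      rw [Subgroup.coe_mul, Subgroup.coe_inv]
      group
    rw [e]
    exact h1
  · constructor
    · intro x y hxy
      induction x using Quotient.inductionOn with | _ p =>
      induction y using Quotient.inductionOn with | _ r =>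
      have h1 : (QuotientGroup.mk (a * (p : G)) : G ⧸ B) = QuotientGroup.mk (a * (r : G)) :=
        congrArg Subtype.val hxy
      rw [QuotientGroup.eq] at h1
      refine Quotient.sound (QuotientGroup.leftRel_apply.2 ?_)
      rw [Subgroup.mem_subgroupOf, Subgroup.coe_mul, Subgroup.coe_inv]
      have e : (a * (p : G))⁻¹ * (a * (r : G)) = (p : G)⁻¹ * r := by group
      rwa [e] at h1
    · rintro ⟨y, hy⟩
      rcases hy with rfl | hy
      · refine ⟨Quotient.mk _ 1, Subtype.ext ?_⟩
        show (QuotientGroup.mk (a * ((1 : P i) : G)) : G ⧸ B) = QuotientGroup.mk a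
        rw [Subgroup.coe_one, mul_one]
      · induction y using QuotientGroup.induction_on with | _ b =>
        rw [h.bldg_δ, h.mem_simple_iff] at hy
        refine ⟨Quotient.mk _ ⟨_, hy.1⟩, Subtype.ext ?_⟩
        show (QuotientGroup.mk (a * (a⁻¹ * b)) : G ⧸ B) = QuotientGroup.mk b
        rw [mul_inv_cancel_left]

/-- a core-free `B`: the action is strongly transitive -/
theorem strongAct (h : Bruhat.Cosets cs B P D) (hcore : ∀ g : G, (∀ x, x⁻¹ * g * x ∈ B) → g = 1) :
    h.bldg.StrongAct G where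
  iso := h.act.iso
  trans := h.act.trans
  faithful := ⟨fun {g g'} hg => by
    have h1 : g'⁻¹ * g = 1 := by
      apply hcore
      intro x
      have h2 : (QuotientGroup.mk (g * x) : G ⧸ B) = QuotientGroup.mk (g' * x) := hg (QuotientGroup.mk x)
      rw [eq_comm, QuotientGroup.eq] at h2
      have e : x⁻¹ * (g'⁻¹ * g) * x = (g' * x)⁻¹ * (g * x) := by group
      rw [e]
      exact h2
    exact (inv_mul_eq_one.1 h1).symm⟩

/-- **`F₄(2)` from the Bruhat decomposition** -/
theorem ident_cosets [Finite G] [Finite W] (e : I ≃ Fin 4) (hM : M.reindex e = CoxeterMatrix.F₄)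
    (h : Bruhat.Cosets cs B P D) (h3 : ∀ i, B.relIndex (P i) = 3)
    (hcore : ∀ g : G, (∀ x, x⁻¹ * g * x ∈ B) → g = 1) : Nonempty (G ≃* ↥(chevF4.group (ZMod 2))) := by
  have hF : CoxeterMatrix.F₄ = cF := by
    ext i j
    fin_cases i <;> fin_cases j <;> rfl
  have hM' : M.reindex e = cF := hM.trans hF
  let cs' : CoxeterSystem cF W := hM' ▸ cs.reindex e
  have hs : ∀ i, cs'.simple i = cs.simple (e.symm i) := fun i => by
    show (hM' ▸ cs.reindex e : CoxeterSystem cF W).simple i = _
    rw [cast_simple]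
    exact cs.reindex_simple e i
  have hst := strongAct h hcore
  refine ident_bldg (re_thick hs h.thick) (fun i x => ?_) (G := G) ⟨hst.iso, hst.trans, hst.faithful⟩
  rw [re_pan]
  exact param h _ (h3 _) x

end Cosets

/-- **`F₄(2)` from a system of parabolics of type `F₄`, all `q i = 2`** -/
theorem ident {I : Type*} [Finite I] {M : CoxeterMatrix I} {G : Type*} [Group G] [Finite G] {B : Subgroup G}
    {P : I → Subgroup G} {U : Subgroup G} (e : I ≃ Fin 4) (hM : M.reindex e = CoxeterMatrix.F₄)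
    (h : FreeLoc.SysL M.toCoxeterSystem B P U (fun _ => 2)) (hcard : 2 ^ 24 ≤ Nat.card U)
    (hcore : ∀ g ∈ B, (∀ x, x⁻¹ * g * x ∈ B) → g = 1) : Nonempty (FourTwo.Base.LL ≃* G) := by
  have hQ := hasQ_F4 (M := M) (q := fun _ => 2) e hM (x := 2) (y := 2) (fun i => by simp)
  have := hQ.1
  obtain ⟨F, hF, he⟩ := M.toCoxeterSystem.exists_isReduced (w0 M.toCoxeterSystem)
  have hc := h.cosets hF he.symm (by rw [hQ.2 F hF he.symm]; exact hcard)
  obtain ⟨f⟩ := ident_cosets e hM hc (fun i => h.card i) fun g hg => hcore g (by simpa using hg 1) hg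
  exact ⟨f.symm⟩

end Cfsg.Agent.Omega.IId.FFour.Ident
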