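import Cfsg.Agent.Omega.IId.FFour.Abs
import Cfsg.Agent.Omega.IId.FFour.TwoFacts

/-!
# OMEGA II.d: the end `F₄(2).2` (bb OMEGA #14245, form #15055)

`false_two`: a group of characteristic 2 type has no subgroup `f.range ≅ F₄(2)` with `C_G(v₁) ≤ f.range` for an
involution `v₁` of the centre of a Sylow 2-subgroup `T` of `f.range`, and an element `s` normalising `f.range` and `T`
and not centralising `v₁`.
-/

set_option autoImplicit false

namespace Cfsg.Agent.Omega.IId.FFour

open Subgroup Cfsg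
open Cfsg.Lie
open Cfsg.Agent.FourTwo.Base (LL x)
open Cfsg.Agent.FourTwo.BN (U V x_mem_U)
open Cfsg.Agent.FourTwo.AutF4
open Cfsg.Agent.Omega.IId.FFour.TwoFacts

universe u

variable {G : Type u} [Group G]

/-- The fixed points of `gam` in `U`. -/
noncomputable def FU : Subgroup LL where
  carrier := {u | u ∈ U ∧ gam u = u}
  mul_mem' := fun {a b} ha hb => ⟨mul_mem ha.1 hb.1, by rw [map_mul, ha.2, hb.2]⟩
  one_mem' := ⟨one_mem _, map_one _⟩
  inv_mem' := fun {a} ha => ⟨inv_mem ha.1, by rw [map_inv, ha.2]⟩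

theorem mem_FU {u : LL} : u ∈ FU ↔ u ∈ U ∧ gam u = u := Iff.rfl

theorem FU_le : FU ≤ U := fun _ hu => hu.1

theorem comm_sq {H : Type*} [Group H] {g m z : H} (h : g * m = m * z * g) (hz : g * z = z * g) (hzz : z * z = 1) :
    m * (g * g) = g * g * m := by
  symm
  calc g * g * m = g * (g * m) := mul_assoc _ _ _
    _ = g * (m * z * g) := by rw [h]
    _ = (g * m) * (z * g) := by simp only [mul_assoc]
    _ = m * z * g * (z * g) := by rw [h]
    _ = m * z * (g * z) * g := by simp only [mul_assoc]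
    _ = m * z * (z * g) * g := by rw [hz]
    _ = m * (z * z) * (g * g) := by simp only [mul_assoc]
    _ = m * (g * g) := by rw [hzz, mul_one]

/-- `F₄(2).2` -/
def NN (f : LL →* G) (y : G) (hy : y * y = 1) (hyf : ∀ l, y * f l * y = f (gam l)) : Subgroup G where
  carrier := {g | g ∈ f.range ∨ g * y ∈ f.range}
  one_mem' := Or.inl (one_mem _)
  mul_mem' := by
    have hyr : ∀ r ∈ f.range, y * r * y ∈ f.range := by
      rintro _ ⟨l, rfl⟩
      exact ⟨gam l, (hyf l).symm⟩
    rintro a b (ha | ha) (hb | hb)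
    · exact Or.inl (mul_mem ha hb)
    · refine Or.inr ?_
      rw [mul_assoc]
      exact mul_mem ha hb
    · refine Or.inr ?_
      have e : a * b * y = a * y * (y * b * y) := by
        calc a * b * y = a * (1 * b) * y := by rw [one_mul]
          _ = _ := by rw [← hy]; simp only [mul_assoc]
      rw [e]
      exact mul_mem ha (hyr _ hb)
    · refine Or.inl ?_
      have e : a * b = a * y * (y * (b * y) * y) := by
        calc a * b = a * 1 * b * 1 := by rw [mul_one, mul_one]
          _ = _ := by rw [← hy]; simp only [mul_assoc]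
      rw [e]
      exact mul_mem ha (hyr _ hb)
  inv_mem' := by
    have hyr : ∀ r ∈ f.range, y * r * y ∈ f.range := by
      rintro _ ⟨l, rfl⟩
      exact ⟨gam l, (hyf l).symm⟩
    rintro a (ha | ha)
    · exact Or.inl (inv_mem ha)
    · refine Or.inr ?_
      have h1 := hyr _ (inv_mem ha)
      have hyi : y⁻¹ = y := inv_eq_of_mul_eq_one_left hy
      rwa [mul_inv_rev, hyi, ← mul_assoc, hy, one_mul] at h1

theorem mem_NN {f : LL →* G} {y : G} {hy : y * y = 1} {hyf : ∀ l, y * f l * y = f (gam l)} {g : G} :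
    g ∈ NN f y hy hyf ↔ g ∈ f.range ∨ g * y ∈ f.range := Iff.rfl

section

variable {f : LL →* G} {y : G}

theorem comm_of_gam (hy : y * y = 1) (hyf : ∀ l, y * f l * y = f (gam l)) {l : LL} (h : gam l = l) :
    f l * y = y * f l := by
  have h1 := hyf l
  rw [h] at h1
  nth_rw 1 [← h1]
  rw [mul_assoc, hy, mul_one]

theorem gam_of_comm (hy : y * y = 1) (hf : Function.Injective f) (hyf : ∀ l, y * f l * y = f (gam l)) {l : LL}
    (h : f l * y = y * f l) : gam l = l := by
  apply hf
  rw [← hyf, ← h, mul_assoc, hy, mul_one]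

theorem y_not_mem (hy : y * y = 1) (hf : Function.Injective f) (hyf : ∀ l, y * f l * y = f (gam l)) :
    y ∉ f.range := by
  rintro ⟨l, rfl⟩
  apply gam_not_inner
  refine ⟨l, fun h => hf ?_⟩
  rw [← hyf, map_mul, map_mul, map_inv]
  congr 1
  exact (inv_eq_of_mul_eq_one_left hy).symm

/-- a 2-group `Q` of elements of `C_N(y)`, normalised by `C_N(y)`, is contained in `⟨y⟩` -/
theorem hD_two (hy : y * y = 1) (hf : Function.Injective f) (hyf : ∀ l, y * f l * y = f (gam l))
    (Q : Subgroup G) (hQ : IsPGroup 2 Q) (hQN : ∀ x ∈ Q, x ∈ NN f y hy hyf ∧ x * y = y * x)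
    (hQn : ∀ k ∈ NN f y hy hyf, k * y = y * k → ∀ x ∈ Q, k * x * k⁻¹ ∈ Q) : ∀ x ∈ Q, x = 1 ∨ x = y := by
  have hyi : y⁻¹ = y := inv_eq_of_mul_eq_one_left hy
  let D : Subgroup LL :=
    { carrier := {l | gam l = l ∧ (f l ∈ Q ∨ f l * y ∈ Q)}
      one_mem' := ⟨map_one _, Or.inl (by rw [map_one]; exact one_mem _)⟩
      mul_mem' := by
        rintro a b ⟨a1, ha⟩ ⟨b1, hb⟩
        have cb := comm_of_gam hy hyf b1
        refine ⟨by rw [map_mul, a1, b1], ?_⟩
        rcases ha with ha | ha <;> rcases hb with hb | hb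
        · exact Or.inl (by rw [map_mul]; exact mul_mem ha hb)
        · exact Or.inr (by rw [map_mul, mul_assoc]; exact mul_mem ha hb)
        · refine Or.inr ?_
          have h1 := mul_mem ha hb
          rwa [mul_assoc, ← cb, ← mul_assoc, ← map_mul] at h1
        · refine Or.inl ?_
          have h1 := mul_mem ha hb
          rwa [mul_assoc, ← mul_assoc y, ← cb, mul_assoc (f b), hy, mul_one, ← map_mul] at h1
      inv_mem' := by
        rintro a ⟨a1, ha⟩
        have ca := comm_of_gam hy hyf a1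
        refine ⟨by rw [map_inv, a1], ?_⟩
        rcases ha with ha | ha
        · exact Or.inl (by rw [map_inv]; exact inv_mem ha)
        · refine Or.inr ?_
          have h1 := inv_mem ha
          rw [ca, mul_inv_rev, hyi] at h1
          rwa [map_inv] }
  have hDmem : ∀ l, l ∈ D ↔ gam l = l ∧ (f l ∈ Q ∨ f l * y ∈ Q) := fun _ => Iff.rfl
  have hD2 : IsPGroup 2 D := by
    rintro ⟨l, h1, h2⟩
    have h3 : (f l) ^ 2 ∈ Q := by
      rcases h2 with h2 | h2
      · exact pow_mem h2 2
      · have h4 := mul_mem h2 h2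
        have cl := comm_of_gam hy hyf h1
        rwa [mul_assoc, ← mul_assoc y, ← cl, mul_assoc (f l), hy, mul_one, ← pow_two] at h4
    obtain ⟨m, hm⟩ := hQ ⟨_, h3⟩
    have hm' : ((f l) ^ 2) ^ 2 ^ m = 1 := congrArg Subtype.val hm
    refine ⟨m + 1, Subtype.ext ?_⟩
    change l ^ 2 ^ (m + 1) = 1
    apply hf
    rw [map_pow, map_one, pow_succ', pow_mul]
    exact hm'
  have hDn : ∀ k, gam k = k → ∀ d ∈ D, k * d * k⁻¹ ∈ D := by
    rintro k hk d ⟨h1, h2⟩
    have ck := comm_of_gam hy hyf hk
    have hkN : f k ∈ NN f y hy hyf := Or.inl ⟨k, rfl⟩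
    refine ⟨by rw [map_mul, map_mul, map_inv, hk, h1], ?_⟩
    rcases h2 with h2 | h2
    · left
      rw [map_mul, map_mul, map_inv]
      exact hQn _ hkN ck _ h2
    · right
      have h3 := hQn _ hkN ck _ h2
      have h4 : (f k)⁻¹ * y = y * (f k)⁻¹ := by
        rw [inv_mul_eq_iff_eq_mul, ← mul_assoc, ck, mul_inv_cancel_right]
      rw [map_mul, map_mul, map_inv, mul_assoc, h4]
      rwa [← mul_assoc (f k), mul_assoc] at h3
  have hcore := core hD2 (fun d hd => hd.1) hDn
  intro q hq
  obtain ⟨h1, h2⟩ := hQN q hq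
  rcases h1 with ⟨l, rfl⟩ | ⟨l, hl⟩
  · left
    rw [hcore l ⟨gam_of_comm hy hf hyf h2, Or.inl hq⟩, map_one]
  · right
    have h3 : f l * y = q := by rw [hl, mul_assoc, hy, mul_one]
    have h4 : f l * y = y * f l := by rw [hl, mul_assoc, hy, mul_one, ← mul_assoc, ← h2, mul_assoc, hy, mul_one]
    rw [← h3, hcore l ⟨gam_of_comm hy hf hyf h4, Or.inr (by rw [h3]; exact hq)⟩, map_one, one_mul]

end

/-- **The normalised situation.** -/
theorem false_aux [Finite G] (hG : IsCharacteristicTwoType G) (f : LL →* G) (hf : Function.Injective f) {y : G}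
    (hy : y * y = 1) (hyf : ∀ l, y * f l * y = f (gam l)) (hC : ∀ g, g * f (x 47) = f (x 47) * g → g ∈ f.range) :
    False := by
  have hfin := finite_LL
  have hp : Fact (Nat.Prime 2) := ⟨Nat.prime_two⟩
  have hyi : y⁻¹ = y := inv_eq_of_mul_eq_one_left hy
  have hyn := y_not_mem hy hf hyf
  have h44 : y * f (x 47) * y = f (x 44) := by rw [hyf, gam_47]
  have hcomm : x 44 * x 47 = x 47 * x 44 := comm_47 (x_mem_U (by omega) (by omega))
  have habs : Abs (NN f y hy hyf) (FU.map f) y (f (x 47)) (f (x 44 * x 47)) := by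
    refine
      { yy := hy
        y1 := fun h => hyn (by rw [h]; exact one_mem _)
        yN := Or.inr (by rw [hy]; exact one_mem _)
        vv := by rw [← map_mul, xx, map_one]
        zdef := by rw [h44, ← map_mul, hcomm]
        com := ?_
        z1 := fun h => z_ne (hf (by rw [h, map_one]))
        hC := fun g hg => Or.inl (hC g hg)
        hD := hD_two hy hf hyf
        K2 := (isPGroup_U.to_le FU_le).map f
        KN := ?_
        Ky := ?_
        Kv := ?_
        hz := ⟨f gT, ⟨gT, ⟨gT_mem, gam_gT⟩, rfl⟩, by rw [← map_mul, gT_sq]⟩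
        star := ?_
        nc := ?_ }
    · rw [h44, ← map_mul, ← map_mul, hcomm]
    · rintro _ ⟨k, -, rfl⟩
      exact Or.inl ⟨k, rfl⟩
    · rintro _ ⟨k, hk, rfl⟩
      exact comm_of_gam hy hyf hk.2
    · rintro _ ⟨k, hk, rfl⟩
      rw [← map_mul, comm_47 hk.1, map_mul]
    · intro l hlN hly hlv _ hlK
      obtain ⟨m, rfl⟩ := hC l hlv
      have hgm := gam_of_comm hy hf hyf hly
      have h47 : m * x 47 = x 47 * m := hf (by rw [map_mul, map_mul, hlv])
      have h44' : m * x 44 = x 44 * m := by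
        have h1 := congrArg gam h47
        rwa [map_mul, map_mul, gam_47, hgm] at h1
      have hz : ∀ k ∈ FU, k * m * k⁻¹ = m ∨ k * m * k⁻¹ = m * (x 44 * x 47) := by
        intro k hk
        rcases hlK (f k) ⟨k, hk, rfl⟩ with h | h
        · left
          apply hf
          rw [map_mul, map_mul, map_inv, h]
        · right
          apply hf
          rw [map_mul, map_mul, map_inv, h]
          exact (map_mul f _ _).symm
      have hA := hz gA ⟨gA_mem, gam_gA⟩
      have hCC := hz gC ⟨gC_mem, gam_gC⟩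
      have hC2 : m * (x 28 * x 30) = x 28 * x 30 * m := by
        rw [← gC_sq]
        rcases hCC with h | h
        · rw [mul_inv_eq_iff_eq_mul] at h
          rw [← mul_assoc, ← h, mul_assoc, ← h, mul_assoc]
        · rw [mul_inv_eq_iff_eq_mul] at h
          have hcz : gC * (x 44 * x 47) = x 44 * x 47 * gC := comm_c gC_mem
          exact comm_sq (g := gC) (m := m) (z := x 44 * x 47) h hcz zz
      have hmU : m ∈ U := mem_U_of h44' h47 hC2
      rcases sk hmU hgm hA hCC with h | h | h | h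
      · left
        rw [h, map_one]
      · right; left
        rw [h]
      · right; right
        refine ⟨by rw [h, ← map_mul, sq1, map_one], ?_⟩
        obtain ⟨g, hg⟩ := conj1
        refine ⟨f g, ?_⟩
        rw [h, ← map_mul, ← map_mul, ← map_inv, ← map_mul, hg]
      · right; right
        refine ⟨by rw [h, ← map_mul, sq2, map_one], ?_⟩
        obtain ⟨g, hg⟩ := conj2
        refine ⟨f g, ?_⟩
        rw [h, ← map_mul, ← map_mul, ← map_inv, ← map_mul, hg]
    · intro g hg
      -- the 2-group `f(U)⟨y⟩`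
      have hyU : ∀ u ∈ U.map f, y * u * y⁻¹ ∈ U.map f := by
        rintro _ ⟨u, hu, rfl⟩
        rw [hyi, hyf]
        exact ⟨gam u, gam_mem_U.2 hu, rfl⟩
      have hV2 : IsPGroup 2 (zpowers y) := by
        intro ⟨n, hn⟩
        refine ⟨1, Subtype.ext ?_⟩
        change n ^ 2 ^ 1 = 1
        rcases (mem_zpowers_two hy).1 hn with rfl | rfl
        · rw [one_pow]
        · rw [pow_one, pow_two, hy]
      have hVn : zpowers y ≤ normalizer (U.map f : Set G) := by
        rw [zpowers_le, mem_normalizer_iff]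
        intro r
        refine ⟨fun hr => hyU r hr, fun hr => ?_⟩
        have h1 := hyU _ hr
        rw [hyi] at h1
        have e : y * (y * r * y) * y = r := by
          calc y * (y * r * y) * y = y * y * r * (y * y) := by group
            _ = r := by rw [hy, one_mul, mul_one]
        rwa [e] at h1
      have hP : IsPGroup 2 (zpowers y ⊔ U.map f : Subgroup G) :=
        hV2.to_sup_of_normal_right' (isPGroup_U.map f) hVn
      -- it centralises `z`
      have hPz : ∀ p ∈ (zpowers y ⊔ U.map f : Subgroup G), p * f (x 44 * x 47) = f (x 44 * x 47) * p := by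
        have h1 : zpowers y ⊔ U.map f ≤ centralizer ({f (x 44 * x 47)} : Set G) := by
          refine sup_le ?_ ?_
          · rw [zpowers_le, mem_centralizer_singleton_iff]
            exact (comm_of_gam hy hyf (by rw [map_mul, gam_44, gam_47, ← hcomm])).symm
          · rintro _ ⟨u, hu, rfl⟩
            rw [mem_centralizer_singleton_iff, ← map_mul, comm_c hu, map_mul]
        exact fun p hp => mem_centralizer_singleton_iff.1 (h1 hp)
      -- its conjugate is contained in `f.range`
      let P : Subgroup G := (zpowers y ⊔ U.map f).map (MulAut.conj g⁻¹).toMonoidHom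
      have hPf : P ≤ f.range := by
        rintro _ ⟨p, hp, rfl⟩
        change g⁻¹ * p * g⁻¹⁻¹ ∈ f.range
        apply hC
        have h1 := hPz p hp
        rw [← hg] at h1
        rw [inv_inv]
        calc g⁻¹ * p * g * f (x 47) = g⁻¹ * (p * (g * f (x 47) * g⁻¹)) * g := by group
          _ = g⁻¹ * (g * f (x 47) * g⁻¹ * p) * g := by rw [h1]
          _ = f (x 47) * (g⁻¹ * p * g) := by group
      have hP2 : IsPGroup 2 P := hP.map _
      have hPcard : Nat.card P = Nat.card (zpowers y ⊔ U.map f : Subgroup G) :=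
        card_map_of_injective (MulAut.conj g⁻¹).injective
      have h2 : Nat.card (P.comap f) = Nat.card P := by
        rw [← map_comap_eq_self hPf]
        rw [card_map_of_injective hf, map_comap_eq_self hPf]
      obtain ⟨t, ht⟩ := exists_conj_mem isPGroup_U index_U (hP2.comap_of_injective f hf)
      have h3 : Nat.card (P.comap f) ≤ Nat.card U := by
        have e : Nat.card ((P.comap f).map (MulAut.conj t⁻¹).toMonoidHom) = Nat.card (P.comap f) :=
          card_map_of_injective (MulAut.conj t⁻¹).injective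
        rw [← e]
        apply card_le_of_le
        rintro _ ⟨p, hp, rfl⟩
        change t⁻¹ * p * t⁻¹⁻¹ ∈ U
        rw [inv_inv]
        exact ht p hp
      have h4 : U.map f < zpowers y ⊔ U.map f := by
        refine lt_of_le_of_ne le_sup_right fun h => hyn ?_
        have h5 : y ∈ U.map f := by
          rw [h]
          exact (le_sup_left : zpowers y ≤ _) (mem_zpowers y)
        obtain ⟨u, -, hu⟩ := h5
        exact ⟨u, hu⟩
      have h5 : Nat.card (U.map f) < Nat.card (zpowers y ⊔ U.map f : Subgroup G) := by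
        by_contra h6
        exact h4.ne (eq_of_le_of_card_ge h4.le (not_lt.1 h6))
      rw [card_map_of_injective hf, ← hPcard, ← h2] at h5
      omega
  exact habs.false hG

/-- **F₄(2).2** -/
theorem false_two [Finite G] (hG : IsCharacteristicTwoType G) (f : LL →* G) (hf : Function.Injective f) {s v₁ : G}
    {T : Subgroup G} (hs : s ∈ normalizer (f.range : Set G)) (hv : v₁ ∈ f.range) (hT : T ≤ f.range)
    (hcT : Nat.card T = 2 ^ 24) (hsT : ∀ t ∈ T, s * t * s⁻¹ ∈ T) (hTv : ∀ t ∈ T, t * v₁ = v₁ * t)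
    (hsv : s * v₁ * s⁻¹ ≠ v₁) (hC : centralizer {v₁} ≤ f.range) : False := by
  have hfin := finite_LL
  have hp : Fact (Nat.Prime 2) := ⟨Nat.prime_two⟩
  -- `T = f₁(U)`
  have hT2 : IsPGroup 2 T := IsPGroup.of_card hcT
  obtain ⟨g, hg⟩ := exists_conj_mem isPGroup_U index_U (hT2.comap_of_injective f hf)
  let f₁ : LL →* G := f.comp (cj g).toMonoidHom
  have hf₁ : ∀ l, f₁ l = f (g * l * g⁻¹) := fun _ => rfl
  have hi₁ : Function.Injective f₁ := fun a b h => (cj g).injective (hf h)
  have hr₁ : f₁.range = f.range := by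
    apply le_antisymm
    · rintro _ ⟨l, rfl⟩
      exact ⟨_, (hf₁ l).symm⟩
    · rintro _ ⟨l, rfl⟩
      refine ⟨g⁻¹ * l * g, ?_⟩
      rw [hf₁, show g * (g⁻¹ * l * g) * g⁻¹ = l by group]
  have hTU : T = U.map f₁ := by
    apply eq_of_le_of_card_ge
    · intro t ht
      obtain ⟨l, rfl⟩ := hT ht
      refine ⟨g⁻¹ * l * g, hg l ht, ?_⟩
      rw [hf₁, show g * (g⁻¹ * l * g) * g⁻¹ = l by group]
    · rw [card_map_of_injective hi₁, card_U, hcT]
  obtain ⟨u, hu, h1⟩ := exists_of_norm_U f₁ hi₁ s (fun l => by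
    rw [hr₁]
    exact (mem_normalizer_iff.1 hs _).1 (by rw [hf₁]; exact ⟨_, rfl⟩)) (fun u hu => by
    rw [← hTU]
    exact hsT _ (by rw [hTU]; exact ⟨u, hu, rfl⟩))
  rw [← hr₁] at hv hC
  obtain ⟨c, rfl⟩ := hv
  have hcU : ∀ u ∈ U, c * u = u * c := fun u hu => hi₁ (by
    rw [map_mul, map_mul]
    exact (hTv (f₁ u) (by rw [hTU]; exact ⟨u, hu, rfl⟩)).symm)
  rcases h1 with h1 | h1
  · apply hsv
    rw [h1, ← hcU u hu, mul_inv_cancel_right]
  have hyl : ∀ l, (f₁ u)⁻¹ * s * f₁ l * ((f₁ u)⁻¹ * s)⁻¹ = f₁ (gam l) := by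
    intro l
    calc (f₁ u)⁻¹ * s * f₁ l * ((f₁ u)⁻¹ * s)⁻¹ = (f₁ u)⁻¹ * (s * f₁ l * s⁻¹) * f₁ u := by group
      _ = (f₁ u)⁻¹ * f₁ (u * gam l * u⁻¹) * f₁ u := by rw [h1]
      _ = f₁ (gam l) := by rw [map_mul, map_mul, map_inv]; group
  generalize (f₁ u)⁻¹ * s = y at hyl
  -- `y` is an involution
  have hyy : ∀ l, y * y * f₁ l = f₁ l * (y * y) := by
    intro l
    have h2 := hyl (gam l)
    rw [gam_gam, ← hyl] at h2
    calc y * y * f₁ l = y * (y * f₁ l * y⁻¹) * y⁻¹ * (y * y) := by group
      _ = f₁ l * (y * y) := by rw [h2]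
  have hy : y * y = 1 := by
    obtain ⟨d, hd⟩ := hC (mem_centralizer_singleton_iff.2 (hyy c))
    have h2 : d = 1 := center fun l => hi₁ (by rw [map_mul, map_mul, hd, hyy])
    rw [← hd, h2, map_one]
  have hyi : y⁻¹ = y := inv_eq_of_mul_eq_one_left hy
  rw [hyi] at hyl
  have hsc : gam c ≠ c := by
    intro h
    apply hsv
    rw [h1, h, ← hcU u hu, mul_inv_cancel_right]
  have hcomm : x 44 * x 47 = x 47 * x 44 := comm_47 (x_mem_U (by omega) (by omega))
  rcases center_U hcU with h | h | h | h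
  · exact hsc (by rw [h, map_one])
  · -- twist by `gam`
    let f₂ : LL →* G := f₁.comp gam.toMonoidHom
    have hf₂ : ∀ l, f₂ l = f₁ (gam l) := fun _ => rfl
    refine false_aux hG f₂ (fun a b h => gam.injective (hi₁ h)) hy (fun l => ?_) (fun k hk => ?_)
    · rw [hf₂, hyl, hf₂]
    · rw [hf₂, gam_47, ← h] at hk
      obtain ⟨d, rfl⟩ := hC (mem_centralizer_singleton_iff.2 hk)
      exact ⟨gam d, by rw [hf₂, gam_gam]⟩
  · refine false_aux hG f₁ hi₁ hy hyl (fun k hk => ?_)
    rw [← h] at hk
    exact hC (mem_centralizer_singleton_iff.2 hk)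
  · exact hsc (by rw [h, map_mul, gam_44, gam_47, hcomm])

end Cfsg.Agent.Omega.IId.FFour
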